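import Groth.Agent.SeesawGen.Locus
import Groth.Agent.S16759
import Groth.Agent.ParaFX.TrivDesc
import Groth.Agent.H23.PicMul

/-!
# A descent locus of an invertible module is closed for geometrically integral fibres
-/

set_option autoImplicit false
attribute [-instance] CategoryTheory.catToReflQuiver
set_option linter.style.haveILetI false
set_option backward.isDefEq.respectTransparency false
set_option backward.isDefEq.respectTransparency.types false
set_option maxHeartbeats 1000000

universe u

open CategoryTheory CategoryTheory.Limits AlgebraicGeometry TopologicalSpace Opposite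

namespace Groth.Agent.SeesawClosed

open Groth.Agent.H23 Groth.Agent.InvX Groth.Agent.H23.TrivBasic Groth.Agent.H23.Seesaw

theorem geometricallyIntegral_of_fields {X S : Scheme.{u}} (f : X ⟶ S)
    (hgeo : ∀ (K : Type u) [Field K] (x : Spec (CommRingCat.of K) ⟶ S), IsIntegral (pullback f x)) :
    GeometricallyIntegral f :=
  ⟨fun K _ y Z fst snd h => by
    haveI := hgeo K y
    haveI : Nonempty Z := ⟨h.isoPullback.inv (Classical.choice IsIntegral.nonempty)⟩
    exact isIntegral_of_isOpenImmersion h.isoPullback.hom⟩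

theorem relTriv_of_chart {X S : Scheme.{u}} {f : X ⟶ S} {L : X.Modules} {A : Type u} [CommRing A]
    (g : Spec (CommRingCat.of A) ⟶ S) {T : Scheme.{u}} (v : T ⟶ Spec (CommRingCat.of A))
    (h : SeesawSub.RelTriv (pullback.snd f g) (SeesawGlobal.chartMod f L A g) v) :
    SeesawSub.RelTriv f L (v ≫ g) := fun t => by
  obtain ⟨V, hV, hT⟩ := h t
  refine ⟨V, hV, ?_⟩
  have h1 := (triv_comp_iff _ _).1 hT
  have h2 := SeesawGlobal.triv_of_factor (pullbackLeftPullbackSndIso f g (V.ι ≫ v)).inv
    (a := pullback.fst f ((V.ι ≫ v) ≫ g)) (by simp) h1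
  exact SeesawGlobal.triv_pullback_of_factor (𝟙 _) (by simp) h2

theorem relTriv_chart {X S : Scheme.{u}} {f : X ⟶ S} {L : X.Modules} {A : Type u} [CommRing A]
    (g : Spec (CommRingCat.of A) ⟶ S) {T : Scheme.{u}} (v : T ⟶ Spec (CommRingCat.of A))
    (h : SeesawSub.RelTriv f L (v ≫ g)) :
    SeesawSub.RelTriv (pullback.snd f g) (SeesawGlobal.chartMod f L A g) v := fun t => by
  obtain ⟨V, hV, hT⟩ := h t
  refine ⟨V, hV, (triv_comp_iff _ _).2 ?_⟩
  have hT' : Triv ((Scheme.Modules.pullback (pullback.fst f ((V.ι ≫ v) ≫ g))).obj L) :=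
    SeesawGlobal.triv_pullback_of_factor (𝟙 _) (by simp) hT
  exact SeesawGlobal.triv_of_factor (pullbackLeftPullbackSndIso f g (V.ι ≫ v)).hom
    (pullbackLeftPullbackSndIso_hom_fst f g (V.ι ≫ v)) hT'

theorem isClosedImmersion_of_universal {X S Z : Scheme.{u}} (f : X ⟶ S) [Flat f] [IsProper f]
    [LocallyOfFinitePresentation f] [GeometricallyIntegral f]
    (hO : ∀ (T : Scheme.{u}) (g : T ⟶ S) (U : T.Opens), IsIso ((pullback.snd f g).app U))
    (E : X.Modules) (hE : PicF.IsInvertible E) (j : Z ⟶ S) [Mono j]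
    (hZ : ∀ (T : Scheme.{u}) (g : T ⟶ S), (∃ g' : T ⟶ Z, g' ≫ j = g) ↔
        ∃ N : T.Modules, FlatMod.IsFinLocFree N ∧
          Nonempty ((Scheme.Modules.pullback (pullback.snd f g)).obj N ≅ (Scheme.Modules.pullback (pullback.fst f g)).obj E)) :
    IsClosedImmersion j := by
  suffices key : ∀ (A : CommRingCat.{u}) (g : Spec A ⟶ S), IsClosedImmersion (pullback.snd j g) from
    (IsZariskiLocalAtTarget.iff_of_openCover (P := @IsClosedImmersion) S.affineOpenCover.openCover).2
      fun i => key _ (S.affineOpenCover.f i)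
  intro A g
  let π := pullback.snd f g
  letI : (pullback f g).Over (Spec (CommRingCat.of A)) := ⟨π⟩
  haveI : IsProper (pullback f g ↘ Spec (CommRingCat.of A)) := inferInstanceAs (IsProper (pullback.snd f g))
  haveI : Flat (pullback f g ↘ Spec (CommRingCat.of A)) := inferInstanceAs (Flat (pullback.snd f g))
  haveI : LocallyOfFinitePresentation (pullback f g ↘ Spec (CommRingCat.of A)) :=
    inferInstanceAs (LocallyOfFinitePresentation (pullback.snd f g))
  haveI : GeometricallyIntegral (pullback f g ↘ Spec (CommRingCat.of A)) :=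
    inferInstanceAs (GeometricallyIntegral (pullback.snd f g))
  have hL : PicF.IsInvertible (SeesawGlobal.chartMod f E A g) := PicClLib.isInvertible_pullback _ hE
  obtain ⟨I, hI, hkill⟩ := SeesawGen.exists_locus (A := A) (X := pullback f g)
    (L := SeesawGlobal.chartMod f E A g) hL
  let q := specAlg A (A ⧸ I)
  haveI : IsClosedImmersion q := IsClosedImmersion.spec_of_surjective _ Ideal.Quotient.mk_surjective
  let v := pullback.snd j g
  -- the fibre product lies in the zero locus
  have hv : SeesawSub.RelTriv f E (v ≫ g) := by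
    obtain ⟨N, hN, ⟨e⟩⟩ := (hZ _ (v ≫ g)).1 ⟨pullback.fst j g, pullback.condition⟩
    have hN' : PicF.IsInvertible N := by
      refine ParaFX.isInvertible_of_pullback (pullback.snd f (v ≫ g)) (QCoh.isQCoh_of_isFinLocFree hN) ?_
      exact PicMul.isInvertible_of_iso e.symm (PicClLib.isInvertible_pullback _ hE)
    refine SeesawSub.relTriv_of_frames fun t => ?_
    choose U hU s hs using InvX.exists_frame hN'
    exact ⟨U t, hU t, _, (InvX.isFrame_pullElt (pullback.snd f (v ≫ g)) (hs t)).map_iso e⟩
  have hv0 : ∀ a ∈ I, v.appTop ((Scheme.ΓSpecIso (CommRingCat.of A)).inv a) = 0 :=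
    hkill _ v (relTriv_chart g v hv)
  let ψ : A →+* Γ(pullback j g, ⊤) := ((Scheme.ΓSpecIso (CommRingCat.of A)).inv ≫ v.appTop).hom
  let a : pullback j g ⟶ Spec (CommRingCat.of (A ⧸ I)) :=
    (pullback j g).toSpecΓ ≫ Spec.map (CommRingCat.ofHom (Ideal.Quotient.lift I ψ hv0))
  have ha : a ≫ q = v := by
    rw [Category.assoc, show q = Spec.map (CommRingCat.ofHom (algebraMap A (A ⧸ I))) from rfl, ← Spec.map_comp]
    have hcomp : CommRingCat.ofHom (algebraMap A (A ⧸ I)) ≫ CommRingCat.ofHom (Ideal.Quotient.lift I ψ hv0) =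
        (Scheme.ΓSpecIso (CommRingCat.of A)).inv ≫ v.appTop := CommRingCat.hom_ext (RingHom.ext fun _ => rfl)
    rw [hcomp, Spec.map_comp, ← Scheme.toSpecΓ_naturality_assoc, ← Scheme.isoSpec_Spec_inv]
    exact (congrArg (v ≫ ·) (Scheme.isoSpec _).hom_inv_id).trans (Category.comp_id v)
  -- the zero locus lies in the fibre product
  have hq : SeesawSub.RelTriv f E (q ≫ g) := relTriv_of_chart g q hI
  have hb : ∀ W, Function.Bijective ((pullback.snd f (q ≫ g)).app W) := fun W =>
    haveI := hO _ (q ≫ g) W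
    ConcreteCategory.bijective_of_isIso _
  obtain ⟨hN1, hN2⟩ := Groth.Agent.S16759.of_local (pullback.snd f (q ≫ g)) hb _ hq.exists_frame
  obtain ⟨b₁, hb₁⟩ := (hZ _ (q ≫ g)).2 ⟨_, H23.PullPush.isFinLocFree_of_isInvertible hN1,
    ⟨asIso ((Scheme.Modules.pullbackPushforwardAdjunction (pullback.snd f (q ≫ g))).counit.app _)⟩⟩
  let b : Spec (CommRingCat.of (A ⧸ I)) ⟶ pullback j g := pullback.lift b₁ q hb₁
  have hb' : b ≫ v = q := pullback.lift_snd _ _ _
  let e : pullback j g ≅ Spec (CommRingCat.of (A ⧸ I)) :=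
    { hom := a
      inv := b
      hom_inv_id := by rw [← cancel_mono v, Category.assoc, hb', ha, Category.id_comp]
      inv_hom_id := by rw [← cancel_mono q, Category.assoc, ha, hb', Category.id_comp] }
  have hev : v = e.hom ≫ q := ha.symm
  haveI : IsIso e.hom := ⟨e.inv, e.hom_inv_id, e.inv_hom_id⟩
  show IsClosedImmersion v
  rw [hev]
  exact (MorphismProperty.cancel_left_of_respectsIso @IsClosedImmersion e.hom q).2
    (IsClosedImmersion.spec_of_surjective _ Ideal.Quotient.mk_surjective)

end Groth.Agent.SeesawClosed
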